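import Groth.Agent.H26.DualFree.Trace
import Groth.Agent.H26.LefAmple.Basic
import Groth.Agent.H26.LefFEt.Quot
import Groth.Agent.QCoh.FlatBC
import Groth.Agent.QCoh.ProperFinite
import Groth.Agent.FFun.PropSupp
import Groth.Agent.H9Misc.HilbPoly
import Groth.Agent.CurveBC.Main
import Groth.Agent.Lib.CurveStable
import Groth.Agent.LefPenLib.Bertini
import Groth.Agent.PPSheaf.Gr
import Groth.Agent.NormalLib.Finite
import Groth.Agent.ParShLib.ResStalk
import Mathlib.AlgebraicGeometry.ZariskisMainTheorem
import Groth.Prelude.Def_Models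

/-!
# A proper model of a curve has a nonzero trace
-/

noncomputable section

set_option autoImplicit false
set_option linter.style.haveILetI false
set_option backward.isDefEq.respectTransparency false
set_option backward.isDefEq.respectTransparency.types false

universe u

open CategoryTheory CategoryTheory.Limits AlgebraicGeometry TopologicalSpace Opposite
open CategoryTheory.Abelian
open scoped TensorProduct
open Groth.Agent.PnCoh.Finite (mapLin deltaLin)

namespace Groth.Agent.H26.DualFree

open Groth.Agent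

theorem exists_mul_eq_zero_of_dual_eq_zero {R M : Type*} [CommRing R] [IsDomain R] [IsPrincipalIdealRing R]
    [AddCommGroup M] [Module R M] [Module.Finite R M] (h : ∀ φ : M →ₗ[R] R, φ = 0) (m : M) :
    ∃ n : R, n ≠ 0 ∧ n • m = 0 := by
  by_contra hne
  push Not at hne
  have hm : m ∉ Submodule.torsion R M := fun ⟨⟨n, hn⟩, hnm⟩ => hne n (nonZeroDivisors.ne_zero hn) hnm
  let b := Module.Free.chooseBasis R (M ⧸ Submodule.torsion R M)
  refine hm ((Submodule.Quotient.mk_eq_zero _).1 (b.repr.injective (Finsupp.ext fun i => ?_)))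
  rw [map_zero]
  exact LinearMap.congr_fun (h ((Finsupp.lapply i).comp (b.repr.toLinearMap.comp (Submodule.torsion R M).mkQ))) m

theorem finrank_tensor_le_one {R K M : Type u} [CommRing R] [IsDomain R] [Field K] [Algebra R K]
    [IsFractionRing R K] [AddCommGroup M] [Module R M] (m₀ : M)
    (h : ∀ z : M, ∃ n : R, n ≠ 0 ∧ ∃ r : R, n • z = r • m₀) : Module.finrank K (K ⊗[R] M) ≤ 1 := by
  refine finrank_le_one ((1 : K) ⊗ₜ[R] m₀) fun w => ?_
  induction w using TensorProduct.induction_on with
  | zero => exact ⟨0, zero_smul _ _⟩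
  | tmul a z =>
    obtain ⟨n, hn, r, hr⟩ := h z
    have hn' : algebraMap R K n ≠ 0 := (map_ne_zero_iff _ (IsFractionRing.injective R K)).2 hn
    refine ⟨a / algebraMap R K n * algebraMap R K r, ?_⟩
    have e : ∀ c : K, c • ((1 : K) ⊗ₜ[R] m₀) = c ⊗ₜ[R] m₀ := fun c => by
      rw [TensorProduct.smul_tmul', smul_eq_mul, mul_one]
    rw [e, show a / algebraMap R K n * algebraMap R K r = r • (a / algebraMap R K n) by
      rw [Algebra.smul_def]; ring, TensorProduct.smul_tmul, ← hr, ← TensorProduct.smul_tmul, Algebra.smul_def,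
      mul_div_cancel₀ _ hn']
  | add x y hx hy =>
    obtain ⟨c, hc⟩ := hx
    obtain ⟨d, hd⟩ := hy
    exact ⟨c + d, by rw [add_smul, hc, hd]⟩

theorem exists_rank_one {R M : Type u} (K : Type u) [CommRing R] [IsDomain R] [Field K] [Algebra R K]
    [IsFractionRing R K] [AddCommGroup M] [Module R M] (h : Module.finrank K (K ⊗[R] M) = 1) :
    ∃ v : M, ∀ y, ∃ n : R, n ≠ 0 ∧ ∃ r : R, n • y = r • v := by
  have hspan : Submodule.span K (Set.range (TensorProduct.mk R K M 1)) = ⊤ := by
    refine Submodule.eq_top_iff'.2 fun w => ?_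
    induction w using TensorProduct.induction_on with
    | zero => exact zero_mem _
    | tmul a z =>
      rw [show a ⊗ₜ[R] z = a • TensorProduct.mk R K M 1 z by
        rw [TensorProduct.mk_apply, TensorProduct.smul_tmul', smul_eq_mul, mul_one]]
      exact Submodule.smul_mem _ _ (Submodule.subset_span ⟨z, rfl⟩)
    | add x y hx hy => exact add_mem hx hy
  haveI : Nontrivial (K ⊗[R] M) := Module.nontrivial_of_finrank_eq_succ h
  obtain ⟨v, hv⟩ : ∃ v : M, (1 : K) ⊗ₜ[R] v ≠ 0 := by
    by_contra hc
    push Not at hc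
    have : Submodule.span K (Set.range (TensorProduct.mk R K M 1)) = ⊥ :=
      Submodule.span_eq_bot.2 (by rintro _ ⟨y, rfl⟩; exact hc y)
    exact bot_ne_top (this.symm.trans hspan)
  refine ⟨v, fun y => ?_⟩
  obtain ⟨c, hc⟩ := exists_smul_eq_of_finrank_eq_one h hv ((1 : K) ⊗ₜ[R] y)
  obtain ⟨r, n, hn, rfl⟩ := IsFractionRing.div_surjective (A := R) c
  have hn0 : n ≠ 0 := nonZeroDivisors.ne_zero hn
  have hn' : algebraMap R K n ≠ 0 := (map_ne_zero_iff _ (IsFractionRing.injective R K)).2 hn0
  have h1 : TensorProduct.mk R K M 1 (n • y - r • v) = 0 := by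
    rw [map_sub, map_smul, map_smul, TensorProduct.mk_apply, TensorProduct.mk_apply, sub_eq_zero,
      ← hc, ← algebraMap_smul K n, ← algebraMap_smul K r, smul_smul, mul_div_cancel₀ _ hn']
  obtain ⟨⟨m, hm⟩, hm0⟩ := (IsLocalizedModule.eq_zero_iff (nonZeroDivisors R) (TensorProduct.mk R K M 1)).1 h1
  refine ⟨m * n, mul_ne_zero (nonZeroDivisors.ne_zero hm) hn0, m * r, ?_⟩
  rw [Submonoid.mk_smul, smul_sub, sub_eq_zero] at hm0
  rw [mul_smul, mul_smul, hm0]

variable {k : Type u} [Field k]

/-- A smooth proper connected curve has two closed points. -/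
theorem exists_two_closed_points (C : Scheme.{u}) (f : C ⟶ Spec (CommRingCat.of k))
    [SmoothOfRelativeDimension 1 f] [IsProper f] [GeometricallyConnected f] :
    ∃ c₁ c₂ : C, c₁ ≠ c₂ ∧ IsClosed ({c₁} : Set C) ∧ IsClosed ({c₂} : Set C) := by
  haveI : Smooth f := SmoothOfRelativeDimension.smooth 1 f
  letI : C.Over (Spec (CommRingCat.of k)) := ⟨f⟩
  haveI : IsProper (C ↘ Spec (CommRingCat.of k)) := ‹IsProper f›
  haveI : Smooth (C ↘ Spec (CommRingCat.of k)) := ‹Smooth f›
  haveI : GeometricallyConnected (C ↘ Spec (CommRingCat.of k)) := ‹GeometricallyConnected f›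
  haveI : IsIntegral C := CurveStable.isIntegral_of_geometricallyConnected k (X := C)
  haveI : JacobsonSpace C := LocallyOfFiniteType.jacobsonSpace f
  have hd := LefPenLib.topologicalKrullDim_eq_of_smoothRelDim (X := C) f (n := 1)
  by_contra hne
  push Not at hne
  obtain ⟨c⟩ : Nonempty C := inferInstance
  have hcl : closure (closedPoints C) = Set.univ := closure_closedPoints
  have hsub : (closedPoints C).Subsingleton := fun a ha b hb => by
    by_contra hab
    exact hne a b hab ha hb
  have huniv : closedPoints C = Set.univ := by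
    have : IsClosed (closedPoints C) := hsub.finite.induction_on_subset _ isClosed_empty
      fun {a s} ha _ _ ih => by
        rw [Set.insert_eq]
        exact (show IsClosed ({a} : Set C) from ha).union ih
    rw [← hcl, this.closure_eq]
  haveI : Subsingleton C := ⟨fun a b => hsub (huniv ▸ Set.mem_univ a) (huniv ▸ Set.mem_univ b)⟩
  have h0 : topologicalKrullDim C ≤ 0 := topologicalKrullDim_zero_of_discreteTopology C
  rw [hd] at h0
  exact absurd h0 (by norm_num)

/-- A finite scheme with two points over a field has two independent functions. -/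
theorem not_span_one {W : Scheme.{u}} [W.Over (Spec (CommRingCat.of k))] [IsProper (W ↘ Spec (CommRingCat.of k))]
    [Finite W] {w₁ w₂ : W} (hne : w₁ ≠ w₂) :
    ¬ Module.finrank k (Coh.HH W (Coh.structureModule W) 0) ≤ 1 := by
  intro hle
  let q := W ↘ Spec (CommRingCat.of k)
  haveI : LocallyQuasiFinite q := locallyQuasiFinite_iff_finite_preimage_singleton.2 fun s => Set.toFinite _
  haveI : IsFinite q := IsFinite.of_isProper_of_locallyQuasiFinite q
  haveI : IsAffine W := isAffine_of_isAffineHom q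
  haveI : IsLocallyNoetherian W := LocallyOfFiniteType.isLocallyNoetherian q
  haveI : Module.Finite k (Coh.HH W (Coh.structureModule W) 0) :=
    CurveCohLib.finite_HH QCoh.isCoh_structureModule' 0
  let e := Sheaf.H.equiv₀ (Coh.toAb (Coh.structureModule W)) isTerminalTop
  let one : Coh.HH W (Coh.structureModule W) 0 := e.symm (1 : Γ(W, ⊤))
  obtain ⟨v, hv⟩ := finrank_le_one_iff.1 hle
  have hsm : ∀ (c : k) (x : Coh.HH W (Coh.structureModule W) 0),
      (show Γ(W, ⊤) from e (c • x)) = (show Γ(W, ⊤) from Coh.toGlobal q c) * (show Γ(W, ⊤) from e x) := fun c x => by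
    refine (Sheaf.H.equiv₀_naturality isTerminalTop (Coh.smulAb (Coh.structureModule W) (Coh.toGlobal q c)) x).symm.trans ?_
    rw [Coh.smulAb_app]
    exact congrArg (fun t : Γ(W, ⊤) => t * (show Γ(W, ⊤) from e x))
      (congr($(W.presheaf.map_id (op ⊤)) (Coh.toGlobal q c)))
  have hunit : ∀ a : Γ(W, ⊤), a = 0 ∨ IsUnit a := by
    obtain ⟨d, hd⟩ := hv one
    have h1 : (show Γ(W, ⊤) from Coh.toGlobal q d) * (show Γ(W, ⊤) from e v) = 1 := by
      rw [← hsm, hd]; exact e.apply_symm_apply _
    intro a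
    obtain ⟨c, hc⟩ := hv (e.symm a)
    have ha : a = (show Γ(W, ⊤) from Coh.toGlobal q c) * (show Γ(W, ⊤) from e v) := by
      rw [← hsm, hc]; exact (e.apply_symm_apply _).symm
    by_cases hc0 : c = 0
    · left; rw [ha, hc0, map_zero, zero_mul]
    · right
      rw [ha]
      exact ((isUnit_iff_ne_zero.2 hc0).map _).mul (IsUnit.of_mul_eq_one_right _ h1)
  haveI : Subsingleton (PrimeSpectrum Γ(W, ⊤)) := ⟨fun P Q => PrimeSpectrum.ext (Ideal.ext fun a => by
    rcases hunit a with rfl | ha
    · exact ⟨fun _ => Q.asIdeal.zero_mem, fun _ => P.asIdeal.zero_mem⟩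
    · exact ⟨fun h => absurd (Ideal.eq_top_of_isUnit_mem _ h ha) P.isPrime.ne_top,
        fun h => absurd (Ideal.eq_top_of_isUnit_mem _ h ha) Q.isPrime.ne_top⟩)⟩
  exact hne (W.isoSpec.hom.homeomorph.injective (Subsingleton.elim (α := PrimeSpectrum Γ(W, ⊤)) _ _))

variable {R : Type u} [CommRing R] [IsDomain R] [IsDiscreteValuationRing R]
  {X C : Scheme.{u}} [X.Over (Spec (CommRingCat.of R))] [IsProper (X ↘ Spec (CommRingCat.of R))]
  (f : C ⟶ Spec (CommRingCat.of (FractionRing R)))

local notation "pX" => X ↘ Spec (CommRingCat.of R)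

theorem nonempty_generic {g : C ⟶ X}
    (h : IsPullback g f pX (Spec.map (CommRingCat.ofHom (algebraMap R (FractionRing R)))))
    {M : X.Modules} (hM : Coh.IsQCoh M) (n : ℕ) :
    letI : C.Over (Spec (CommRingCat.of (FractionRing R))) := ⟨f⟩
    Nonempty (FractionRing R ⊗[R] Coh.HH X M n ≃ₗ[FractionRing R]
      Coh.HH C ((Scheme.Modules.pullback g).obj M) n) := by
  haveI : CompactSpace X := QuasiCompact.compactSpace_of_compactSpace pX
  haveI := quasiSeparatedSpace_of_quasiSeparated pX
  exact QCoh.HH_flatBaseChange h hM n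

/-- Some coherent module on a proper model has a non-torsion first cohomology. -/
theorem exists_functional (hX : Models.IsModel R X pX C f)
    [SmoothOfRelativeDimension 1 f] [IsProper f] [GeometricallyConnected f] :
    ∃ (F : X.Modules), Coh.IsQCoh F ∧ ∃ φ : Coh.HH X F 1 →ₗ[R] R, φ ≠ 0 := by
  obtain ⟨hflat, -, -, g, hg⟩ := hX
  obtain ⟨c₁, c₂, hne, h1, h2⟩ := exists_two_closed_points C f
  by_contra hno
  push Not at hno
  haveI : IsLocallyNoetherian X := LocallyOfFiniteType.isLocallyNoetherian pX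
  haveI : CompactSpace X := QuasiCompact.compactSpace_of_compactSpace pX
  haveI : IsNoetherian X := {}
  haveI : IsPreimmersion g := MorphismProperty.of_isPullback hg.flip
    (IsPreimmersion.of_isLocalization (S := FractionRing R) (nonZeroDivisors R))
  let Z : Closeds X := ⟨closure ({g.base c₁} ∪ {g.base c₂}), isClosed_closure⟩
  let I := Scheme.IdealSheafData.vanishingIdeal Z
  let J := I.comap g
  letI : C.Over (Spec (CommRingCat.of (FractionRing R))) := ⟨f⟩
  letI : J.subscheme.Over (Spec (CommRingCat.of (FractionRing R))) := ⟨J.subschemeι ≫ f⟩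
  haveI : IsProper (J.subscheme ↘ Spec (CommRingCat.of (FractionRing R))) :=
    inferInstanceAs (IsProper (J.subschemeι ≫ f))
  have hsupp : ∀ w : J.subscheme, J.subschemeι w = c₁ ∨ J.subschemeι w = c₂ := fun w => by
    have hw : J.subschemeι w ∈ (J.support : Set C) := by
      rw [← Scheme.IdealSheafData.range_subschemeι]; exact ⟨w, rfl⟩
    rw [Scheme.IdealSheafData.support_comap] at hw
    have hw' : g.base (J.subschemeι w) ∈ closure ({g.base c₁} ∪ {g.base c₂}) := by
      simpa [I, Z, Scheme.IdealSheafData.coe_support_vanishingIdeal] using hw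
    rw [closure_union] at hw'
    have hi := g.isEmbedding.isInducing
    rcases hw' with h | h
    · exact Or.inl (h1.closure_eq.subset (specializes_iff_mem_closure.1
        (hi.specializes_iff.1 (specializes_iff_mem_closure.2 h))))
    · exact Or.inr (h2.closure_eq.subset (specializes_iff_mem_closure.1
        (hi.specializes_iff.1 (specializes_iff_mem_closure.2 h))))
  haveI : Finite J.subscheme := Finite.of_injective
    (β := ({c₁, c₂} : Set C)) (fun w => ⟨J.subschemeι w, hsupp w⟩)
    fun a b hab => J.subschemeι.isClosedEmbedding.injective (by have h3 := congrArg Subtype.val hab; exact h3)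
  have hmem : ∀ c, g.base c ∈ closure ({g.base c₁} ∪ {g.base c₂}) → ∃ w, J.subschemeι w = c := fun c hc => by
    have : c ∈ (J.support : Set C) := by
      rw [Scheme.IdealSheafData.support_comap]
      simpa [I, Z, Scheme.IdealSheafData.coe_support_vanishingIdeal] using hc
    rwa [← Scheme.IdealSheafData.range_subschemeι] at this
  obtain ⟨w₁, hw₁⟩ := hmem c₁ (subset_closure (Or.inl rfl))
  obtain ⟨w₂, hw₂⟩ := hmem c₂ (subset_closure (Or.inr rfl))
  refine not_span_one (k := FractionRing R) (W := J.subscheme) (w₁ := w₁) (w₂ := w₂)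
    (fun h => hne (by rw [← hw₁, ← hw₂, h])) ?_
  have hQ : Coh.IsQCoh (ClSub.quotMod I) := (ParShLib.isCoh_quotMod I).1
  obtain ⟨e1⟩ := nonempty_generic f hg hQ 0
  let e2 := H9Misc.HilbPoly.hhEquiv (FractionRing R) (asIso (LefFEt.cMap g I)) 0
  obtain ⟨e3⟩ := QCoh.HH_push_linear J.subschemeι (Coh.toGlobal f) (Coh.toGlobal (J.subschemeι ≫ f))
    (fun a => rfl) (M := Coh.structureModule J.subscheme) QCoh.isQCoh_structureModule 0
  refine le_trans (le_of_eq ((LinearEquiv.finrank_eq e3).trans (LinearEquiv.finrank_eq (e1.trans e2)).symm)) ?_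
  let one : Coh.HH X (Coh.structureModule X) 0 :=
    (Sheaf.H.equiv₀ (Coh.toAb (Coh.structureModule X)) isTerminalTop).symm (1 : Γ(X, ⊤))
  obtain ⟨eO⟩ := nonempty_generic f hg (M := Coh.structureModule X) QCoh.isQCoh_structureModule 0
  haveI : Smooth f := SmoothOfRelativeDimension.smooth 1 f
  haveI : IsProper (C ↘ Spec (CommRingCat.of (FractionRing R))) := ‹IsProper f›
  haveI : Smooth (C ↘ Spec (CommRingCat.of (FractionRing R))) := ‹Smooth f›
  haveI : GeometricallyConnected (C ↘ Spec (CommRingCat.of (FractionRing R))) := ‹GeometricallyConnected f›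
  have hO1 : Module.finrank (FractionRing R) (FractionRing R ⊗[R] Coh.HH X (Coh.structureModule X) 0) = 1 := by
    rw [LinearEquiv.finrank_eq (eO.trans (H9Misc.HilbPoly.hhEquiv (FractionRing R) (LefFEt.uIso g) 0))]
    exact CurveBC.finrank_h0_of_geometricallyConnected (FractionRing R) C
  have hS := LefAmple.idealSES_shortExact I
  haveI : Module.Finite R (Coh.HH X (Coh.structureModule X) 0) := FFun.finite_HH_of_properSupport R
    ⟨isClosed_univ, inferInstance⟩ QCoh.isCoh_structureModule' (Set.subset_univ _) 0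
  haveI : Module.Finite R (Coh.HH X (ClSub.idealMod I) 1) := by
    have hc : Coh.IsCoh (ClSub.idealMod I) :=
      NormalLib.isCoh_idealMod I
    exact FFun.finite_HH_of_properSupport R ⟨isClosed_univ, inferInstance⟩ hc (Set.subset_univ _) 1
  obtain ⟨v, hv, hvz⟩ : ∃ v : Coh.HH X (Coh.structureModule X) 0,
      (∀ y, ∃ n : R, n ≠ 0 ∧ ∃ r : R, n • y = r • v) ∧ True := by
    obtain ⟨v, hv⟩ := exists_rank_one (FractionRing R) hO1
    exact ⟨v, hv, trivial⟩
  refine finrank_tensor_le_one (mapLin R (ClSub.toSubscheme I) 0 v) fun z => ?_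
  obtain ⟨n, hn, hnz⟩ := exists_mul_eq_zero_of_dual_eq_zero
    (fun φ => hno _ (PPSheaf.isQCoh_idealMod I) φ) (deltaLin R hS 0 z)
  obtain ⟨y, hy⟩ := PnCoh.Finite.exists_of_deltaLin_eq_zero R hS 0 (x := n • z) (by rw [map_smul, hnz])
  obtain ⟨n', hn', r, hr⟩ := hv y
  refine ⟨n' * n, mul_ne_zero hn' hn, r, ?_⟩
  refine (mul_smul n' n z).trans ((congrArg (n' • ·) hy.symm).trans ?_)
  exact (map_smul (mapLin R (ClSub.toSubscheme I) 0) n' y).symm.trans
    ((congrArg _ hr).trans (map_smul _ r v))

end Groth.Agent.H26.DualFree
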