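import Groth.Agent.H26.DualFree.Trace
import Groth.Agent.H26.DualFree.Curve
import Mathlib.AlgebraicGeometry.Morphisms.Flat
import Mathlib.LinearAlgebra.Dimension.Constructions
import Mathlib.RingTheory.Flat.TorsionFree

/-!
# `H¹(ω)` is free of rank `rk H⁰(O)` for a proper model
-/

noncomputable section

set_option autoImplicit false
set_option linter.style.haveILetI false
set_option backward.isDefEq.respectTransparency false
set_option backward.isDefEq.respectTransparency.types false

universe u

open CategoryTheory CategoryTheory.Limits AlgebraicGeometry TopologicalSpace Opposite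
open scoped TensorProduct

namespace Groth.Agent.H26.DualFree

open Groth.Agent

/-- Multiplication by a nonzero constant is injective on the functions of a flat scheme over a domain. -/
theorem eq_zero_of_smul_top {R : Type u} [CommRing R] [IsDomain R] {X : Scheme.{u}}
    [X.Over (Spec (CommRingCat.of R))] [Flat (X ↘ Spec (CommRingCat.of R))] {r : R} (hr : r ≠ 0)
    {z : Coh.HH X (Coh.structureModule X) 0} (hz : r • z = 0) : z = 0 := by
  let p := X ↘ Spec (CommRingCat.of R)
  let e := Sheaf.H.equiv₀ (Coh.toAb (Coh.structureModule X)) isTerminalTop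
  apply e.injective
  rw [map_zero]
  let c : Γ(X, ⊤) := Coh.toGlobal p r
  have h1 : c * (show Γ(X, ⊤) from e z) = 0 := by
    have h := (Sheaf.H.equiv₀_naturality isTerminalTop (Coh.smulAb (Coh.structureModule X) (Coh.toGlobal p r)) z)
    rw [Coh.smulAb_app] at h
    refine Eq.trans ?_ (h.trans ((congrArg _ hz).trans (map_zero _)))
    exact (congrArg (fun t : Γ(X, ⊤) => t * (show Γ(X, ⊤) from e z))
      (congr($(X.presheaf.map_id (op ⊤)) (Coh.toGlobal p r)))).symm
  show (show Γ(X, ⊤) from e z) = 0
  refine TopCat.Presheaf.section_ext ⟨X.presheaf, X.sheaf.2⟩ ⊤ _ 0 fun x _ => ?_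
  obtain ⟨V, hV, hxV, -⟩ := X.isBasis_affineOpens.exists_subset_of_mem_open (Set.mem_univ x) isOpen_univ
  obtain ⟨W, hW, rfl⟩ := hV
  have hf : (p.appLE ⊤ W le_top).hom.Flat :=
    HasRingHomProperty.appLE @Flat p inferInstance ⟨⊤, isAffineOpen_top _⟩ ⟨W, hW⟩ _
  let φ : R →+* Γ(X, W) := (p.appLE ⊤ W le_top).hom.comp (Scheme.ΓSpecIso (CommRingCat.of R)).inv.hom
  have hφ : φ.Flat := RingHom.Flat.comp
    (RingHom.Flat.of_bijective (ConcreteCategory.bijective_of_isIso (Scheme.ΓSpecIso (CommRingCat.of R)).inv)) hf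
  letI := φ.toAlgebra
  haveI : Module.Flat R Γ(X, W) := hφ
  have hc : φ r = X.presheaf.map (homOfLE le_top).op c := rfl
  have h2 : r • (X.presheaf.map (homOfLE (le_top : W ≤ ⊤)).op (show Γ(X, ⊤) from e z)) = 0 := by
    rw [Algebra.smul_def]
    show φ r * _ = 0
    rw [hc, ← map_mul, h1, map_zero]
  have h3 : X.presheaf.map (homOfLE (le_top : W ≤ ⊤)).op (show Γ(X, ⊤) from e z) = 0 :=
    (IsSMulRegular.of_flat (IsSMulRegular.of_ne_zero hr)).right_eq_zero_of_smul h2
  exact ((X.presheaf.germ_res_apply (homOfLE (le_top : W ≤ ⊤)) x hxV _).symm.trans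
    ((congrArg _ h3).trans (map_zero _))).trans (map_zero _).symm

/-- A module with an injective nonzero functional over a principal ideal domain is free of rank one. -/
theorem free_of_injective {R M : Type*} [CommRing R] [IsDomain R] [IsPrincipalIdealRing R] [AddCommGroup M]
    [Module R M] (t : M →ₗ[R] R) (ht : Function.Injective t) (h0 : t ≠ 0) :
    Module.Free R M ∧ Module.finrank R M = 1 := by
  let e := LinearEquiv.ofInjective t ht
  haveI : Module.Free R M := Module.Free.of_equiv e.symm
  haveI : Module.Finite R M := Module.Finite.equiv e.symm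
  refine ⟨inferInstance, le_antisymm ((LinearMap.finrank_le_finrank_of_injective ht).trans
    (Module.finrank_self R).le) ?_⟩
  obtain ⟨x, hx⟩ : ∃ x, t x ≠ 0 := by
    by_contra hc
    push Not at hc
    exact h0 (LinearMap.ext hc)
  haveI : Nontrivial M := ⟨⟨x, 0, fun h => hx (by rw [h, map_zero])⟩⟩
  exact Module.finrank_pos

variable {R : Type u} [CommRing R] [IsDomain R] [IsDiscreteValuationRing R]
  {X C : Scheme.{u}} [X.Over (Spec (CommRingCat.of R))] [IsProper (X ↘ Spec (CommRingCat.of R))]
  (f : C ⟶ Spec (CommRingCat.of (FractionRing R)))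

/-- The first cohomology of a dualizing module of a model is free of the rank of `H⁰(O)`. -/
theorem free_H1_dualizing [SmoothOfRelativeDimension 1 f] [IsProper f] [GeometricallyConnected f]
    (hX : Models.IsModel R X (X ↘ Spec (CommRingCat.of R)) C f)
    {ω : X.Modules} {tr : Coh.HH X ω 1 →ₗ[R] R} (hω : Canon.IsRDualOver R X 1 ω tr)
    (hcf : Module.Free R (Coh.HH X (Coh.structureModule X) 1)) :
    Module.Free R (Coh.HH X ω 1) ∧
      Module.finrank R (Coh.HH X ω 1) = Module.finrank R (Coh.HH X (Coh.structureModule X) 0) := by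
  obtain ⟨F, hF, φ, hφ⟩ := exists_functional f hX
  obtain ⟨hflat, -, -, g, hg⟩ := hX
  haveI : IsLocallyNoetherian X := LocallyOfFiniteType.isLocallyNoetherian (X ↘ Spec (CommRingCat.of R))
  haveI : CompactSpace X := QuasiCompact.compactSpace_of_compactSpace (X ↘ Spec (CommRingCat.of R))
  haveI : IsNoetherian X := {}
  have hfin : ∀ i, Module.Finite R (Coh.HH X (Coh.structureModule X) i) := fun i =>
    FFun.finite_HH_of_properSupport R ⟨isClosed_univ, inferInstance⟩ QCoh.isCoh_structureModule' (Set.subset_univ _) i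
  haveI := hfin 0
  haveI : NoZeroSMulDivisors R (Coh.HH X (Coh.structureModule X) 0) :=
    ⟨fun {r z} h => or_iff_not_imp_left.2 fun hr => eq_zero_of_smul_top hr h⟩
  haveI : Module.Free R (Coh.HH X (Coh.structureModule X) 0) := Module.free_of_finite_type_torsion_free'
  letI : C.Over (Spec (CommRingCat.of (FractionRing R))) := ⟨f⟩
  haveI : Smooth f := SmoothOfRelativeDimension.smooth 1 f
  haveI : IsProper (C ↘ Spec (CommRingCat.of (FractionRing R))) := ‹IsProper f›
  haveI : Smooth (C ↘ Spec (CommRingCat.of (FractionRing R))) := ‹Smooth f›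
  haveI : GeometricallyConnected (C ↘ Spec (CommRingCat.of (FractionRing R))) := ‹GeometricallyConnected f›
  obtain ⟨eO⟩ := nonempty_generic f hg (M := Coh.structureModule X) QCoh.isQCoh_structureModule 0
  have hrk : Module.finrank R (Coh.HH X (Coh.structureModule X) 0) = 1 := by
    rw [← Module.finrank_baseChange (R := FractionRing R),
      LinearEquiv.finrank_eq (eO.trans (H9Misc.HilbPoly.hhEquiv (FractionRing R) (LefFEt.uIso g) 0))]
    exact CurveBC.finrank_h0_of_geometricallyConnected (FractionRing R) C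
  have hone : ∃ u : Coh.HH X (Coh.structureModule X) 0, ∀ z, ∃ r : R, z = r • u := by
    let b := Module.finBasisOfFinrankEq R (Coh.HH X (Coh.structureModule X) 0) hrk
    exact ⟨b 0, fun z => ⟨b.repr z 0, by conv_lhs => rw [← b.sum_repr z, Fin.sum_univ_one]⟩⟩
  have hinj : Function.Injective tr := injective_trace (hfin 1) hcf hone hω
  have htr : tr ≠ 0 := fun h0 => by
    obtain ⟨χ, hχ⟩ := (hω.2 F hF).2 φ
    refine hφ (hχ.symm.trans ?_)
    show tr ∘ₗ Canon.HHlin R χ 1 = 0
    rw [h0, LinearMap.zero_comp]
  rw [hrk]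
  exact free_of_injective tr hinj htr

end Groth.Agent.H26.DualFree
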