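import Groth.Agent.H26.DualS2
import Groth.Agent.InvX.Tensor
import Groth.Agent.Lib.AVAmple
import Groth.Agent.QCoh.HHExact
import Groth.Agent.PnCoh.Finite.HHLin
import Groth.Agent.CohPullX.Edge
import Groth.Agent.KZ.ClosedDev
import Groth.Agent.KFlatLib.Scheme.Grothendieck
import Mathlib.RingTheory.PrincipalIdealDomain
import Mathlib.LinearAlgebra.FreeModule.PID

/-!
# Injectivity of the trace in degree one
-/

noncomputable section

set_option autoImplicit false
set_option linter.style.haveILetI false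
set_option backward.isDefEq.respectTransparency false
set_option backward.isDefEq.respectTransparency.types false

universe u

open CategoryTheory CategoryTheory.Limits AlgebraicGeometry TopologicalSpace Opposite
open CategoryTheory.Abelian
open Groth.Agent.PnCoh.Finite (mapLin deltaLin)

namespace Groth.Agent.H26.DualFree

open Groth.Agent

/-- Extension of a functional along an exact pair with free finite target. -/
theorem exists_extend {R M E P : Type*} [CommRing R] [IsDomain R] [IsPrincipalIdealRing R] [AddCommGroup M]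
    [Module R M] [AddCommGroup E] [Module R E] [AddCommGroup P] [Module R P] [Module.Free R P] [Module.Finite R P]
    (f : M →ₗ[R] E) (g : E →ₗ[R] P) (hfg : ∀ e, g e = 0 → ∃ m, f m = e) (hgf : ∀ m, g (f m) = 0)
    (t : M →ₗ[R] R) (ht : ∀ m, f m = 0 → t m = 0) : ∃ s : E →ₗ[R] R, s.comp f = t := by
  obtain ⟨l, hl⟩ := Module.projective_lifting_property g.rangeRestrict LinearMap.id g.surjective_rangeRestrict
  have hl' : ∀ y, g (l y) = y.1 := fun y => congrArg Subtype.val (LinearMap.congr_fun hl y)
  let π : E →ₗ[R] E := LinearMap.id - l.comp g.rangeRestrict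
  have hπ : ∀ e, g (π e) = 0 := fun e => by
    simp only [π, LinearMap.sub_apply, LinearMap.id_apply, LinearMap.comp_apply, map_sub, hl']
    exact sub_self _
  let π' : E →ₗ[R] LinearMap.range f :=
    LinearMap.codRestrict (LinearMap.range f) π fun e => hfg _ (hπ e)
  let t' : (M ⧸ LinearMap.ker f) →ₗ[R] R := (LinearMap.ker f).liftQ t fun m hm => ht m hm
  refine ⟨(t'.comp (LinearMap.quotKerEquivRange f).symm.toLinearMap).comp π', LinearMap.ext fun m => ?_⟩
  have hz : g.rangeRestrict (f m) = 0 := Subtype.ext (hgf m)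
  have h1 : π' (f m) = LinearMap.quotKerEquivRange f (Submodule.Quotient.mk m) := Subtype.ext (by
    simp [π', π, hz]
    )
  simp only [LinearMap.comp_apply, LinearEquiv.coe_coe, h1, LinearEquiv.symm_apply_apply]
  rfl

variable (R : Type u) [CommRing R] [IsDomain R] [IsPrincipalIdealRing R] {X : Scheme.{u}}
  [X.Over (Spec (CommRingCat.of R))]

/-- Every class in `H¹` comes from an extension of `O`. -/
theorem exists_extension (F : X.Modules) (x : Coh.HH X F 1) :
    ∃ (E : X.Modules) (a : F ⟶ E) (b : E ⟶ Coh.structureModule X) (w : a ≫ b = 0)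
      (hS : (ShortComplex.mk a b w).ShortExact) (z : Coh.HH X (Coh.structureModule X) 0),
      deltaLin R hS 0 z = x := by
  haveI := IsGrothendieckAbelian.enoughInjectives (C := X.Modules)
  let S := ShortComplex.mk (Injective.ι F) (cokernel.π (Injective.ι F)) (cokernel.condition _)
  have hS : S.ShortExact :=
    { exact := ShortComplex.exact_cokernel _
      mono_f := inferInstance
      epi_g := inferInstance }
  have hA := QCoh.toAb_shortExact hS
  have hI : Subsingleton (Coh.HH X S.X₂ 1) :=
    CohPullX.subsingleton_H_of_flasque _ (QCoh.isFlasqueMod_of_injective S.X₂) 0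
  obtain ⟨q, hq⟩ := Ext.covariant_sequence_exact₁ _ hA x (hI.elim _ _) (zero_add 1)
  let qs : Γ(S.X₃, ⊤) := Sheaf.H.equiv₀ (Coh.toAb S.X₃) isTerminalTop q
  let g : Coh.structureModule X ⟶ S.X₃ := InvX.ofSect qs
  let E := pullback S.g g
  let a : F ⟶ E := pullback.lift S.f 0 (by rw [S.zero, zero_comp])
  let b : E ⟶ Coh.structureModule X := pullback.snd S.g g
  have w : a ≫ b = 0 := pullback.lift_snd _ _ _
  haveI : Epi S.g := hS.epi_g
  haveI : Mono S.f := hS.mono_f
  haveI : Mono a := mono_of_mono_fac (pullback.lift_fst (f := S.g) (g := g) S.f 0 (by rw [S.zero, zero_comp]))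
  have hT : (ShortComplex.mk a b w).ShortExact := by
    refine { exact := ShortComplex.exact_of_f_is_kernel _ ?_, mono_f := inferInstanceAs (Mono a), epi_g := inferInstanceAs (Epi b) }
    refine KernelFork.IsLimit.ofι' a w fun {W} k hk => ?_
    have h1 : (k ≫ pullback.fst S.g g) ≫ S.g = 0 := by
      rw [Category.assoc, pullback.condition, ← Category.assoc]
      exact (congrArg (· ≫ g) hk).trans zero_comp
    refine ⟨hS.fIsKernel.lift (KernelFork.ofι (k ≫ pullback.fst S.g g) h1), pullback.hom_ext ?_ ?_⟩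
    · rw [Category.assoc, pullback.lift_fst]
      exact Fork.IsLimit.lift_ι hS.fIsKernel
    · rw [Category.assoc]
      exact ((congrArg (_ ≫ ·) w).trans comp_zero).trans hk.symm
  let one : Coh.HH X (Coh.structureModule X) 0 :=
    (Sheaf.H.equiv₀ (Coh.toAb (Coh.structureModule X)) isTerminalTop).symm (1 : Γ(X, ⊤))
  have hone : Sheaf.H.map ((QCoh.toAbFunctor X).map g) 0 one = q := by
    refine (Sheaf.H.equiv₀ (Coh.toAb S.X₃) isTerminalTop).injective ?_
    refine (Sheaf.H.equiv₀_naturality _ _ _).symm.trans ?_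
    exact (congrArg _ (AddEquiv.apply_symm_apply (Sheaf.H.equiv₀ (Coh.toAb (Coh.structureModule X)) isTerminalTop)
      (1 : Γ(X, ⊤)))).trans (InvX.one_ofSect qs)
  refine ⟨E, a, b, w, hT, one, ?_⟩
  let α : ShortComplex.mk a b w ⟶ S :=
    { τ₁ := 𝟙 F
      τ₂ := pullback.fst S.g g
      τ₃ := g
      comm₁₂ := by
        rw [Category.id_comp]
        exact (pullback.lift_fst _ _ _).symm
      comm₂₃ := pullback.condition }
  let β := (QCoh.toAbFunctor X).mapShortComplex.map α
  have hT' := QCoh.toAb_shortExact hT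
  have hnat := ShortComplex.ShortExact.extClass_naturality hT' hA β
  have h1 : (one.comp (Ext.mk₀ β.τ₃) (add_zero 0)).comp hA.extClass (zero_add 1) =
      (one.comp hT'.extClass (zero_add 1)).comp (Ext.mk₀ β.τ₁) (add_zero 1) := by
    rw [Ext.comp_assoc_of_third_deg_zero, hnat, Ext.comp_assoc_of_second_deg_zero]
  have h2 : β.τ₁ = 𝟙 _ := (QCoh.toAbFunctor X).map_id F
  rw [h2] at h1
  replace h1 := h1.trans (Ext.comp_mk₀_id _)
  refine h1.symm.trans (Eq.trans ?_ hq)
  exact congrArg (fun r => Ext.comp r hA.extClass (zero_add 1)) hone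

variable {R}

/-- In a one-dualizing pair, the trace is injective once `H⁰(O) = R` and `H¹(O)` is free. -/
theorem injective_trace (hfin : Module.Finite R (Coh.HH X (Coh.structureModule X) 1))
    (hfree : Module.Free R (Coh.HH X (Coh.structureModule X) 1))
    (hone : ∃ u : Coh.HH X (Coh.structureModule X) 0, ∀ z, ∃ r : R, z = r • u)
    {ω : X.Modules} {tr : Coh.HH X ω 1 →ₗ[R] R} (hω : Canon.IsRDualOver R X 1 ω tr):
    Function.Injective tr := by
  obtain ⟨u, hu⟩ := hone
  refine (injective_iff_map_eq_zero _).2 fun x hx => ?_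
  by_contra hx0
  obtain ⟨E, a, b, w, hS, z, hz⟩ := exists_extension R ω x
  have hA := QCoh.toAb_shortExact hS
  have hEq : Coh.IsQCoh E := QCoh.isQCoh_X₂ hS hω.1 QCoh.isQCoh_structureModule
  obtain ⟨s, hs⟩ := exists_extend (mapLin R a 1) (mapLin R b 1)
    (fun e he => (Ext.covariant_sequence_exact₂ _ hA e he).imp fun m hm => hm)
    (fun m => by
      show Sheaf.H.map _ 1 (Sheaf.H.map _ 1 m) = 0
      refine (PnCoh.Finite.map_map (Y := X.toPresheafedSpace.carrier) (e := (QCoh.toAbFunctor X).map (a ≫ b))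
        ((QCoh.toAbFunctor X).map_comp a b).symm 1 m).trans ?_
      rw [w, Functor.map_zero]
      show ((Sheaf.functorH _ 1).map 0).hom m = 0
      rw [Functor.map_zero]
      rfl)
    tr fun m hm => by
      obtain ⟨z', rfl⟩ : ∃ z', deltaLin R hS 0 z' = m :=
        Ext.covariant_sequence_exact₁ _ hA m hm (zero_add 1)
      obtain ⟨r, rfl⟩ := hu z
      obtain ⟨r', rfl⟩ := hu z'
      have hr : r ≠ 0 := fun hr => hx0 (by rw [← hz, hr, zero_smul, map_zero])
      rw [map_smul] at hz
      have h0 : r * tr (deltaLin R hS 0 u) = 0 := by rw [← smul_eq_mul, ← map_smul, hz, hx]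
      rw [map_smul, map_smul, (mul_eq_zero.1 h0).resolve_left hr, smul_zero]
  obtain ⟨χ, hχ⟩ := (hω.2 E hEq).2 s
  have hid : a ≫ χ = 𝟙 ω := (hω.2 ω hω.1).1 (LinearMap.ext fun m => by
    show tr (Canon.HHlin R (a ≫ χ) 1 m) = tr (Canon.HHlin R (𝟙 ω) 1 m)
    rw [DualS2.HHlin_comp]
    refine (LinearMap.congr_fun hχ (Canon.HHlin R a 1 m)).trans ((LinearMap.congr_fun hs m).trans ?_)
    show tr m = tr (Sheaf.H.map ((SheafOfModules.toSheaf X.ringCatSheaf).map (𝟙 ω)) 1 m)
    rw [CategoryTheory.Functor.map_id, Sheaf.H.map_id_apply])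
  have hx' : mapLin R a 1 x = 0 := by
    rw [← hz]
    exact ((Ext.comp_assoc_of_third_deg_zero _ _ _ _).trans
      ((congrArg (fun r => Ext.comp z r (zero_add 1)) hA.extClass_comp).trans (Ext.comp_zero _ _ _ _ _)))
  have h3 : Canon.HHlin R (a ≫ χ) 1 x = x := by
    rw [hid]
    show Sheaf.H.map ((SheafOfModules.toSheaf X.ringCatSheaf).map (𝟙 ω)) 1 x = x
    rw [CategoryTheory.Functor.map_id, Sheaf.H.map_id_apply]
  refine hx0 ?_
  rw [← h3, DualS2.HHlin_comp, show Canon.HHlin R a 1 x = mapLin R a 1 x from rfl, hx', map_zero]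

end Groth.Agent.H26.DualFree
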